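import Groth.Agent.Sga7.H330.ResRoots

/-!
# From approximation of a discrete valuation ring to approximation of its fraction field
-/

set_option autoImplicit false
universe u

open IsLocalRing

namespace Groth.Agent.Sga7.H330.Assemble

/-- `R'` with its uniformizer `t` is approximated by Noetherian rings `B` with a nonzerodivisor `π ↦ t`
such that `B/π` is regular and of finite type over `F`. -/
def Appr (R' : Type u) [CommRing R'] (t : R') (F : Type u) [Field F] : Prop :=
  ∀ (S : Finset R') (ht : t ∈ S), ∃ (B : Type u) (_ : CommRing B) (_ : IsNoetherianRing B) (π : B)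
    (_ : π ∈ nonZeroDivisors B) (_ : IsRegularRing (B ⧸ Ideal.span {π}))
    (_ : Algebra F (B ⧸ Ideal.span {π})) (_ : Algebra.FiniteType F (B ⧸ Ideal.span {π}))
    (h : B →+* R') (s : Algebra.adjoin ℤ (S : Set R') →+* B),
    s ⟨t, Algebra.subset_adjoin ht⟩ = π ∧ ∀ x, h (s x) = x

section

variable {R' : Type u} [CommRing R'] [IsDomain R'] [IsDiscreteValuationRing R'] {K' : Type u} [Field K']
  [Algebra R' K'] [IsFractionRing R' K'] {t : R'} (ht : Irreducible t)

include ht

theorem exists_mul_pow_eq (z : K') : ∃ (m : ℕ) (r : R'), z * algebraMap R' K' t ^ m = algebraMap R' K' r := by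
  obtain ⟨x, y, hy, rfl⟩ := IsFractionRing.div_surjective (A := R') z
  have hy0 : y ≠ 0 := nonZeroDivisors.ne_zero hy
  obtain ⟨n, u, hu⟩ := IsDiscreteValuationRing.eq_unit_mul_pow_irreducible hy0 ht
  refine ⟨n, x * (u⁻¹ : R'ˣ), ?_⟩
  have hy1 : algebraMap R' K' y ≠ 0 := fun h => hy0 ((IsFractionRing.injective R' K') (by rw [h, map_zero]))
  rw [div_mul_eq_mul_div, div_eq_iff hy1, ← map_pow, ← map_mul, ← map_mul]
  congr 1
  rw [hu]
  have : (u⁻¹ : R'ˣ) * (u : R') = 1 := Units.inv_mul u
  linear_combination (- x * t ^ n) * this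

theorem exists_subalgebra (A : Type u) [CommRing A] (hA : Algebra.FiniteType ℤ A) (φ : A →+* K') :
    ∃ (S : Finset R') (hS : t ∈ S), ∀ a : A, ∃ (m : ℕ) (r : Algebra.adjoin ℤ (S : Set R')),
      φ a * algebraMap R' K' t ^ m = algebraMap R' K' r := by
  classical
  obtain ⟨s, hs⟩ := hA.out
  choose m r hmr using fun a : A => exists_mul_pow_eq ht (φ a)
  refine ⟨insert t (s.image r), Finset.mem_insert_self _ _, fun a => ?_⟩
  have hmem : (t : R') ∈ Algebra.adjoin ℤ ((insert t (s.image r) : Finset R') : Set R') :=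
    Algebra.subset_adjoin (Finset.mem_insert_self _ _)
  have ha : a ∈ Algebra.adjoin ℤ (s : Set A) := by rw [hs]; trivial
  induction ha using Algebra.adjoin_induction with
  | mem x hx =>
    exact ⟨m x, ⟨r x, Algebra.subset_adjoin (by
      simp only [Finset.coe_insert, Finset.coe_image]
      exact Set.mem_insert_of_mem _ ⟨x, hx, rfl⟩)⟩, hmr x⟩
  | algebraMap n =>
    refine ⟨0, algebraMap ℤ _ n, ?_⟩
    simp
  | add x y _ _ hx hy =>
    obtain ⟨m1, r1, h1⟩ := hx
    obtain ⟨m2, r2, h2⟩ := hy
    refine ⟨m1 + m2, r1 * ⟨t, hmem⟩ ^ m2 + r2 * ⟨t, hmem⟩ ^ m1, ?_⟩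
    simp only [Subalgebra.coe_add, Subalgebra.coe_mul, Subalgebra.coe_pow, map_add, map_mul, map_pow, pow_add]
    linear_combination (algebraMap R' K' t ^ m2) * h1 + (algebraMap R' K' t ^ m1) * h2
  | mul x y _ _ hx hy =>
    obtain ⟨m1, r1, h1⟩ := hx
    obtain ⟨m2, r2, h2⟩ := hy
    refine ⟨m1 + m2, r1 * r2, ?_⟩
    simp only [Subalgebra.coe_mul, map_mul, pow_add]
    rw [← h1, ← h2]
    ring

theorem main (F : Type u) [Field F] (ℓ : ℕ) (hF : ResRoots.FewRoots F ℓ) (hR' : Appr R' t F)
    (A : Type u) [CommRing A] (hA : Algebra.FiniteType ℤ A) (φ : A →+* K') :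
    ∃ (C : Type u) (_ : CommRing C) (_ : IsRegularLocalRing C) (_ : IsDomain C) (π : C)
      (_ : (Ideal.span {π}).IsPrime) (g : C →+* R')
      (ψ : A →+* Localization.Away π) (χ : Localization.Away π →+* K'),
      π ∈ maximalIdeal C ∧ π ∉ maximalIdeal C ^ 2 ∧
      IsLocalHom g ∧ Irreducible (g π) ∧
      χ.comp (algebraMap C (Localization.Away π)) = (algebraMap R' K').comp g ∧
      χ.comp ψ = φ ∧
      ∀ (k' : Type u) [Field k'] [Algebra (ResidueField (Localization.AtPrime (Ideal.span {π}))) k'],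
        FiniteDimensional (ResidueField (Localization.AtPrime (Ideal.span {π}))) k' →
          ∃ m : ℕ, ∀ ζ : k', ¬ IsPrimitiveRoot ζ (ℓ ^ m) := by
  obtain ⟨S, hS, hφ⟩ := exists_subalgebra ht A hA φ
  obtain ⟨B, _, _, π, hπ, hreg, _, hft, h, s, hst, hhs⟩ := hR' S hS
  have hinj := IsFractionRing.injective R' K'
  have ht0 : algebraMap R' K' t ≠ 0 := fun h0 => ht.ne_zero (hinj (by rw [h0, map_zero]))
  -- the subring and its localization
  let A0 := Algebra.adjoin ℤ (S : Set R')
  let t0 : A0 := ⟨t, Algebra.subset_adjoin hS⟩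
  let ι : Localization.Away t0 →+* K' :=
    IsLocalization.Away.lift t0 (g := (algebraMap R' K').comp (A0.val : A0 →+* R'))
      (isUnit_iff_ne_zero.2 ht0)
  have hι : ∀ x : A0, ι (algebraMap A0 _ x) = algebraMap R' K' x := fun x =>
    IsLocalization.Away.lift_eq t0 _ x
  have hιinj : Function.Injective ι := by
    rw [injective_iff_map_eq_zero]
    intro z hz
    obtain ⟨n, x, hx⟩ := IsLocalization.Away.surj t0 z
    have h1 : algebraMap R' K' x = 0 := by
      rw [← hι, ← hx, map_mul, hz, zero_mul]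
    have h2 : x = 0 := Subtype.ext (hinj (h1.trans (map_zero _).symm))
    rw [h2, map_zero] at hx
    have hu : IsUnit (algebraMap A0 (Localization.Away t0) t0 ^ n) :=
      (IsLocalization.Away.algebraMap_isUnit t0).pow n
    exact hu.mul_left_eq_zero.1 hx
  have hφι : ∀ a, φ a ∈ ι.range := by
    intro a
    obtain ⟨m, r, hr⟩ := hφ a
    obtain ⟨v, hv⟩ := ((IsLocalization.Away.algebraMap_isUnit (S := Localization.Away t0) t0).pow m).exists_right_inv
    refine ⟨algebraMap A0 _ r * v, ?_⟩
    have h1 : algebraMap R' K' t ^ m * ι v = 1 := by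
      have := congrArg ι hv
      rw [map_mul, map_pow, map_one, hι] at this
      exact this
    rw [map_mul, hι, ← hr, mul_assoc, h1, mul_one]
  have hbij : Function.Bijective ι.rangeRestrict :=
    ⟨fun x y hxy => hιinj (congrArg Subtype.val hxy), ι.rangeRestrict_surjective⟩
  let ψ0 : A →+* Localization.Away t0 :=
    (RingEquiv.ofBijective ι.rangeRestrict hbij).symm.toRingHom.comp (φ.codRestrict ι.range hφι)
  have hψ0 : ι.comp ψ0 = φ := by
    ext a
    have h1 : ι.rangeRestrict (ψ0 a) = φ.codRestrict ι.range hφι a :=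
      RingEquiv.apply_symm_apply (RingEquiv.ofBijective ι.rangeRestrict hbij) _
    exact congrArg Subtype.val h1
  -- the regular local ring
  have hπt : h π = t := by rw [← hst]; exact hhs _
  let P : Ideal B := (maximalIdeal R').comap h
  have hP : π ∈ P := by
    change h π ∈ maximalIdeal R'
    rw [hπt]; exact (mem_maximalIdeal _).2 ht.not_isUnit
  let C := Localization.AtPrime P
  have hCreg : IsRegularLocalRing C := RegPoint.isRegularLocalRing π hπ P hP
  have hCdom : IsDomain C := Groth.Agent.CalgA.RegBasic.isDomain C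
  let ϖ : C := algebraMap B C π
  have hϖ : (Ideal.span {ϖ}).IsPrime := RegPoint.isPrime_span π P hP
  have hu : ∀ y : P.primeCompl, IsUnit (h y) := fun y => by
    by_contra hy
    exact y.2 ((mem_maximalIdeal _).2 hy)
  let g : C →+* R' := IsLocalization.lift (M := P.primeCompl) hu
  have hg : ∀ b, g (algebraMap B C b) = h b := fun b => IsLocalization.lift_eq hu b
  have hgϖ : g ϖ = t := by rw [hg, hπt]
  have hgloc : IsLocalHom g := by
    refine ⟨fun x hx => ?_⟩
    obtain ⟨⟨b, y⟩, hby⟩ := IsLocalization.surj P.primeCompl x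
    have h1 : IsUnit (h b) := by
      rw [← hg, ← hby, map_mul, hg]
      exact hx.mul (hu y)
    have h2 : b ∉ P := fun hb => (mem_maximalIdeal _).1 hb h1
    have h3 : IsUnit (algebraMap B C b) := IsLocalization.map_units C (⟨b, h2⟩ : P.primeCompl)
    rw [← hby] at h3
    exact isUnit_of_mul_isUnit_left h3
  let χ : Localization.Away ϖ →+* K' :=
    IsLocalization.Away.lift ϖ (g := (algebraMap R' K').comp g)
      (isUnit_iff_ne_zero.2 (by rw [RingHom.comp_apply, hgϖ]; exact ht0))
  have hχ : ∀ c : C, χ (algebraMap C _ c) = algebraMap R' K' (g c) := fun c =>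
    IsLocalization.Away.lift_eq ϖ _ c
  let β : Localization.Away t0 →+* Localization.Away ϖ :=
    IsLocalization.Away.lift t0 (g := (algebraMap C (Localization.Away ϖ)).comp ((algebraMap B C).comp s))
      (by
        change IsUnit (algebraMap C (Localization.Away ϖ) (algebraMap B C (s t0)))
        rw [show s t0 = π from hst]
        exact IsLocalization.Away.algebraMap_isUnit ϖ)
  have hβ : ∀ x : A0, β (algebraMap A0 _ x) = algebraMap C _ (algebraMap B C (s x)) := fun x =>
    IsLocalization.Away.lift_eq t0 _ x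
  have hχβ : χ.comp β = ι := by
    apply IsLocalization.ringHom_ext (Submonoid.powers t0)
    ext x
    rw [RingHom.comp_apply, RingHom.comp_apply, RingHom.comp_apply, hβ, hχ, hg, hhs, hι]
  refine ⟨C, inferInstance, hCreg, hCdom, ϖ, hϖ, g, β.comp ψ0, χ, RegPoint.mem_maximalIdeal' π P hP,
    fun hmem => ?_, hgloc, by rw [hgϖ]; exact ht, ?_, ?_, ?_⟩
  · have h1 : g ϖ ∈ maximalIdeal R' ^ 2 := by
      have h2 : (maximalIdeal C ^ 2).map g ≤ maximalIdeal R' ^ 2 := by
        rw [Ideal.map_pow]
        exact Ideal.pow_right_mono (IsLocalRing.map_maximalIdeal_le g) 2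
      exact h2 (Ideal.mem_map_of_mem g hmem)
    rw [hgϖ, ht.maximalIdeal_eq, Ideal.span_singleton_pow, Ideal.mem_span_singleton] at h1
    obtain ⟨c, hc⟩ := h1
    have h2 : t * (t * c - 1) = 0 := by linear_combination -hc
    rcases mul_eq_zero.1 h2 with h3 | h3
    · exact ht.ne_zero h3
    · exact ht.not_isUnit (IsUnit.of_mul_eq_one c (by linear_combination h3))
  · ext c
    exact hχ c
  · rw [← RingHom.comp_assoc, hχβ, hψ0]
  · intro k' _ _ hk
    exact ResRoots.exists_no_root (Ideal.span {π}) F P (by rwa [Ideal.span_le, Set.singleton_subset_iff]) C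
      (Ideal.span {ϖ}) (by rw [Ideal.map_span, Set.image_singleton]) ℓ hF k' hk

end

end Groth.Agent.Sga7.H330.Assemble
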