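import Mathlib.RingTheory.AdjoinRoot
import Mathlib.RingTheory.Polynomial.Basic
import Mathlib.RingTheory.FiniteType
import Mathlib.RingTheory.Flat.TorsionFree
import Mathlib.RingTheory.Ideal.Quotient.Operations

/-!
# The ring `D[X] / (X^e - p ∑ b_j X^j)`
-/

set_option autoImplicit false
universe u v

open Polynomial

namespace Groth.Agent.Sga7.H330.EisPoly

section

variable {D : Type u} [CommRing D] {e : ℕ} (p : D) (b : Fin e → D)

/-- `p ∑ b_j X^j`. -/
noncomputable def low : D[X] := C p * ∑ j, C (b j) * X ^ (j : ℕ)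

/-- `X^e - p ∑ b_j X^j`. -/
noncomputable def eis : D[X] := X ^ e - low p b

theorem degree_low_lt : (low p b).degree < e := by
  refine lt_of_le_of_lt ?_ (degree_sum_fin_lt b)
  rw [low]
  exact (degree_mul_le _ _).trans ((add_le_add_left degree_C_le _).trans (by rw [zero_add]))

theorem monic_eis : (eis p b).Monic := monic_X_pow_sub (degree_low_lt p b)

theorem natDegree_eis [Nontrivial D] : (eis p b).natDegree = e := by
  have h : (eis p b).degree = e := by
    rw [eis, degree_sub_eq_left_of_degree_lt, degree_X_pow]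
    rw [degree_X_pow]
    exact degree_low_lt p b
  exact natDegree_eq_of_degree_eq_some h

theorem map_eis {D' : Type v} [CommRing D'] (f : D →+* D') :
    (eis p b).map f = eis (f p) (fun j => f (b j)) := by
  simp only [eis, low, Polynomial.map_sub, Polynomial.map_pow, map_X, Polynomial.map_mul, map_C,
    Polynomial.map_sum]

theorem eval₂_eis {D' : Type v} [CommRing D'] (f : D →+* D') (t : D') :
    (eis p b).eval₂ f t = t ^ e - f p * ∑ j, f (b j) * t ^ (j : ℕ) := by
  simp only [eis, low, eval₂_sub, eval₂_pow, eval₂_X, eval₂_mul, eval₂_C, eval₂_finsetSum]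

theorem eval_zero_eis (he : 0 < e) : (eis p b).eval 0 = - (p * b ⟨0, he⟩) := by
  have h : (eis p b).eval 0 = (eis p b).eval₂ (RingHom.id D) 0 := rfl
  rw [h, eval₂_eis, zero_pow he.ne', zero_sub]
  congr 2
  rw [Finset.sum_eq_single (⟨0, he⟩ : Fin e)]
  · simp
  · intro j _ hj
    have : (j : ℕ) ≠ 0 := fun h => hj (Fin.ext h)
    rw [zero_pow this, mul_zero]
  · intro h
    exact absurd (Finset.mem_univ _) h

/-- `X` divides `p b_0` in `D[X]/(eis)`. -/
theorem exists_root_mul (he : 0 < e) : ∃ q : AdjoinRoot (eis p b),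
    AdjoinRoot.root (eis p b) * q = AdjoinRoot.of (eis p b) (p * b ⟨0, he⟩) := by
  obtain ⟨q, hq⟩ := Polynomial.X_sub_C_dvd_sub_C_eval (p := eis p b) (a := 0)
  refine ⟨AdjoinRoot.mk (eis p b) q, ?_⟩
  have h1 := congrArg (AdjoinRoot.mk (eis p b)) hq
  rw [map_sub, AdjoinRoot.mk_self, eval_zero_eis p b he, map_mul, C_0, sub_zero, AdjoinRoot.mk_X,
    AdjoinRoot.mk_C, map_neg] at h1
  rw [← h1]
  ring

theorem root_mem_nonZeroDivisors (he : 0 < e) (hp : p ∈ nonZeroDivisors D) (hb : IsUnit (b ⟨0, he⟩)) :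
    AdjoinRoot.root (eis p b) ∈ nonZeroDivisors (AdjoinRoot (eis p b)) := by
  obtain ⟨q, hq⟩ := exists_root_mul p b he
  have hfree : Module.Free D (AdjoinRoot (eis p b)) := (monic_eis p b).free_adjoinRoot
  have h1 : AdjoinRoot.of (eis p b) (p * b ⟨0, he⟩) ∈ nonZeroDivisors (AdjoinRoot (eis p b)) := by
    have h2 : p * b ⟨0, he⟩ ∈ nonZeroDivisors D := mul_mem hp hb.mem_nonZeroDivisors
    have h3 : IsSMulRegular (AdjoinRoot (eis p b)) (p * b ⟨0, he⟩) :=
      Module.Flat.isSMulRegular_of_nonZeroDivisors h2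
    rw [mem_nonZeroDivisors_iff_right]
    intro z hz
    apply h3
    simp only [smul_zero]
    rw [Algebra.smul_def, mul_comm]
    exact hz
  rw [← hq] at h1
  exact (mul_mem_nonZeroDivisors.1 h1).1

theorem degree_eis [Nontrivial D] : (eis p b).degree = e := by
  rw [eis, degree_sub_eq_left_of_degree_lt, degree_X_pow]
  rw [degree_X_pow]
  exact degree_low_lt p b

theorem exists_coeffs [Nontrivial D] (z : AdjoinRoot (eis p b)) :
    ∃ a : Fin e → D, z = ∑ j, AdjoinRoot.of (eis p b) (a j) * AdjoinRoot.root (eis p b) ^ (j : ℕ) := by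
  obtain ⟨P, rfl⟩ := AdjoinRoot.mk_surjective z
  have h1 : AdjoinRoot.mk (eis p b) P = AdjoinRoot.mk (eis p b) (P %ₘ eis p b) := by
    rw [AdjoinRoot.mk_eq_mk]
    exact (dvd_sub_comm).1 (Polynomial.dvd_modByMonic_sub P (eis p b))
  have h2 : (P %ₘ eis p b).degree < e := by
    have h3 := degree_modByMonic_lt P (monic_eis p b)
    rwa [degree_eis] at h3
  refine ⟨fun j => (P %ₘ eis p b).coeff j, ?_⟩
  have h3 : P %ₘ eis p b = ∑ j : Fin e, C ((P %ₘ eis p b).coeff j) * X ^ (j : ℕ) := by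
    rw [Polynomial.sum_fin (fun i a => C a * X ^ i) (by simp) h2]
    exact (Polynomial.sum_C_mul_X_pow_eq _).symm
  conv_lhs => rw [h1, h3]
  rw [map_sum]
  simp only [map_mul, map_pow, AdjoinRoot.mk_C, AdjoinRoot.mk_X]

/-- `D[X]/(eis, X) = D/p`. -/
theorem exists_quotient_equiv (he : 0 < e) (hb : IsUnit (b ⟨0, he⟩)) :
    ∃ f : (AdjoinRoot (eis p b) ⧸ Ideal.span {AdjoinRoot.root (eis p b)}) ≃+* (D ⧸ Ideal.span {p}),
      ∀ d : D, f (Ideal.Quotient.mk _ (AdjoinRoot.of (eis p b) d)) = Ideal.Quotient.mk _ d := by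
  have hp0 : Ideal.Quotient.mk (Ideal.span {p}) p = 0 :=
    Ideal.Quotient.eq_zero_iff_mem.2 (Ideal.mem_span_singleton_self p)
  let g : AdjoinRoot (eis p b) →+* D ⧸ Ideal.span {p} :=
    AdjoinRoot.lift (Ideal.Quotient.mk (Ideal.span {p})) 0 (by
      rw [eval₂_eis, zero_pow he.ne', hp0, zero_mul, sub_zero])
  have hgof : ∀ d, g (AdjoinRoot.of (eis p b) d) = Ideal.Quotient.mk _ d := fun d => AdjoinRoot.lift_of _
  have hgroot : g (AdjoinRoot.root (eis p b)) = 0 := AdjoinRoot.lift_root _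
  have hsurj : Function.Surjective g := fun y => by
    obtain ⟨d, rfl⟩ := Ideal.Quotient.mk_surjective y
    exact ⟨_, hgof d⟩
  have hker : RingHom.ker g = Ideal.span {AdjoinRoot.root (eis p b)} := by
    apply le_antisymm
    · intro z hz
      obtain ⟨P, rfl⟩ := AdjoinRoot.mk_surjective z
      obtain ⟨Q, hQ⟩ := Polynomial.X_sub_C_dvd_sub_C_eval (p := P) (a := 0)
      rw [C_0, sub_zero] at hQ
      have h1 : P = X * Q + C (P.eval 0) := by rw [← hQ]; ring
      have h2 : AdjoinRoot.mk (eis p b) P = AdjoinRoot.root (eis p b) * AdjoinRoot.mk (eis p b) Q +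
          AdjoinRoot.of (eis p b) (P.eval 0) := by
        conv_lhs => rw [h1]
        rw [map_add, map_mul, AdjoinRoot.mk_X, AdjoinRoot.mk_C]
      rw [RingHom.mem_ker, h2, map_add, map_mul, hgroot, zero_mul, zero_add, hgof,
        Ideal.Quotient.eq_zero_iff_mem, Ideal.mem_span_singleton] at hz
      obtain ⟨c, hc⟩ := hz
      rw [h2]
      refine Ideal.add_mem _ (Ideal.mul_mem_right _ _ (Ideal.mem_span_singleton_self _)) ?_
      obtain ⟨q, hq⟩ := exists_root_mul p b he
      obtain ⟨v, hv⟩ := hb.exists_right_inv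
      rw [Ideal.mem_span_singleton]
      refine ⟨q * AdjoinRoot.of (eis p b) (v * c), ?_⟩
      rw [← mul_assoc, hq, ← map_mul, hc]
      congr 1
      linear_combination (-p * c) * hv
    · rw [Ideal.span_le, Set.singleton_subset_iff]
      exact hgroot
  refine ⟨(Ideal.quotEquivOfEq hker.symm).trans (RingHom.quotientKerEquivOfSurjective hsurj), fun d => ?_⟩
  exact hgof d

end

end Groth.Agent.Sga7.H330.EisPoly
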