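import Groth.Agent.Flat2E.FinSepClosure
import Mathlib.RingTheory.RootsOfUnity.Minpoly
import Mathlib.FieldTheory.Minpoly.IsIntegrallyClosed
import Mathlib.FieldTheory.Finiteness
import Mathlib.Algebra.Algebra.Rat

/-!
# A finitely generated field contains only finitely many roots of unity of `ℓ`-power order
-/

set_option autoImplicit false

namespace Groth.Agent.Sga7.H330.FgRoots

open IntermediateField

variable (F k' : Type*) [Field F] [Field k'] [Algebra F k'] [Algebra.EssFiniteType F k']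

omit [Algebra.EssFiniteType F k'] in
/-- Reduction to the algebraic closure of the ground field. -/
theorem exists_of_finite (ℓ : ℕ) (h : ∃ m : ℕ, ∀ ζ : algebraicClosure F k', ¬ IsPrimitiveRoot ζ (ℓ ^ m))
    (hℓ : 0 < ℓ) : ∃ m : ℕ, ∀ ζ : k', ¬ IsPrimitiveRoot ζ (ℓ ^ m) := by
  obtain ⟨m, hm⟩ := h
  refine ⟨m, fun ζ hζ => ?_⟩
  have hint : IsIntegral F ζ := (hζ.isIntegral (pow_pos hℓ m)).tower_top
  have hmem : ζ ∈ algebraicClosure F k' := mem_algebraicClosure_iff.2 hint.isAlgebraic
  refine hm ⟨ζ, hmem⟩ ?_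
  have hinj : Function.Injective (algebraMap (algebraicClosure F k') k') :=
    (algebraMap (algebraicClosure F k') k').injective
  exact IsPrimitiveRoot.of_map_of_injective (f := algebraMap (algebraicClosure F k') k') hζ hinj

/-- The case of a finite ground field. -/
theorem exists_of_finite_field [Finite F] (ℓ : ℕ) (hℓ : 1 < ℓ) :
    ∃ m : ℕ, ∀ ζ : k', ¬ IsPrimitiveRoot ζ (ℓ ^ m) := by
  refine exists_of_finite F k' ℓ ?_ (by omega)
  have hfin : FiniteDimensional F (algebraicClosure F k') :=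
    Groth.Agent.Flat2E.FinSepClosure.finiteDimensional_of_isAlgebraic _
  have hfin2 : Finite (algebraicClosure F k') := Module.finite_of_finite F
  refine ⟨Nat.card (algebraicClosure F k'), fun ζ hζ => ?_⟩
  set N := Nat.card (algebraicClosure F k') with hN
  have hlt : N < ℓ ^ N := Nat.lt_pow_self hℓ
  have h1 : ℓ ^ N ≤ N := by
    have h2 : Function.Injective (fun i : Fin (ℓ ^ N) => ζ ^ (i : ℕ)) := fun i j hij =>
      Fin.ext (hζ.pow_inj i.2 j.2 hij)
    have h3 := Nat.card_le_card_of_injective _ h2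
    simpa using h3
  omega

/-- The case of a number field. -/
theorem exists_of_rat [CharZero F] [FiniteDimensional ℚ F] (ℓ : ℕ) (hℓ : ℓ.Prime) :
    ∃ m : ℕ, ∀ ζ : k', ¬ IsPrimitiveRoot ζ (ℓ ^ m) := by
  refine exists_of_finite F k' ℓ ?_ hℓ.pos
  have hfin : FiniteDimensional F (algebraicClosure F k') :=
    Groth.Agent.Flat2E.FinSepClosure.finiteDimensional_of_isAlgebraic _
  have : CharZero (algebraicClosure F k') :=
    charZero_of_injective_algebraMap (algebraMap F (algebraicClosure F k')).injective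
  have hfin2 : FiniteDimensional ℚ (algebraicClosure F k') := FiniteDimensional.trans ℚ F _
  refine ⟨Module.finrank ℚ (algebraicClosure F k') + 2, fun ζ hζ => ?_⟩
  set N := Module.finrank ℚ (algebraicClosure F k') with hN
  have hpos : 0 < ℓ ^ (N + 2) := pow_pos hℓ.pos _
  have h1 := hζ.totient_le_degree_minpoly
  have h2 : (minpoly ℤ ζ).natDegree = (minpoly ℚ ζ).natDegree := by
    rw [minpoly.isIntegrallyClosed_eq_field_fractions' ℚ (hζ.isIntegral hpos),
      Polynomial.Monic.natDegree_map (minpoly.monic (hζ.isIntegral hpos))]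
  have h3 : (minpoly ℚ ζ).natDegree ≤ N := minpoly.natDegree_le ζ
  rw [h2] at h1
  have h4 : Nat.totient (ℓ ^ (N + 2)) = ℓ ^ (N + 1) * (ℓ - 1) := Nat.totient_prime_pow_succ hℓ (N + 1)
  have h5 : N + 1 < ℓ ^ (N + 1) := Nat.lt_pow_self hℓ.one_lt
  have h6 : ℓ ^ (N + 1) ≤ ℓ ^ (N + 1) * (ℓ - 1) := Nat.le_mul_of_pos_right _ (by have := hℓ.two_le; omega)
  omega

end Groth.Agent.Sga7.H330.FgRoots
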