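import Groth.Agent.FormalA.AdicFin
import Mathlib.RingTheory.DiscreteValuationRing.Basic
import Mathlib.RingTheory.AdicCompletion.Functoriality
import Mathlib.RingTheory.Filtration

/-!
# Totally ramified extensions of a complete discrete valuation ring
-/

set_option autoImplicit false
set_option linter.unusedSectionVars false
universe u

open IsLocalRing

namespace Groth.Agent.Sga7.H330.Ram

section

variable {Λ R' : Type u} [CommRing Λ] [IsDomain Λ] [IsDiscreteValuationRing Λ] [CommRing R'] [IsDomain R']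
  [IsDiscreteValuationRing R'] [Algebra Λ R'] [IsLocalHom (algebraMap Λ R')]
  {p : Λ} (hp : Irreducible p) {t : R'} (ht : Irreducible t) {e : ℕ} {w : R'} (hw : IsUnit w)
  (hpt : algebraMap Λ R' p = w * t ^ e)

include hp ht hw hpt

theorem e_pos : 0 < e := by
  rcases Nat.eq_zero_or_pos e with rfl | h
  · exfalso
    rw [pow_zero, mul_one] at hpt
    exact hp.not_isUnit (isUnit_of_map_unit (algebraMap Λ R') p (hpt ▸ hw))
  · exact h

theorem exists_sum (hres : ∀ r : R', ∃ l : Λ, r - algebraMap Λ R' l ∈ maximalIdeal R') (k : ℕ) (r : R') :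
    ∃ (c : Fin k → Λ) (s : R'), r = ∑ j, algebraMap Λ R' (c j) * t ^ (j : ℕ) + t ^ k * s := by
  induction k with
  | zero => exact ⟨Fin.elim0, r, by simp⟩
  | succ k ih =>
    obtain ⟨c, s, hcs⟩ := ih
    obtain ⟨l, hl⟩ := hres s
    rw [ht.maximalIdeal_eq, Ideal.mem_span_singleton] at hl
    obtain ⟨s', hs'⟩ := hl
    refine ⟨Fin.snoc c l, s', ?_⟩
    rw [Fin.sum_univ_castSucc]
    simp only [Fin.snoc_castSucc, Fin.snoc_last, Fin.val_castSucc, Fin.val_last]
    rw [hcs]
    have : s = algebraMap Λ R' l + t * s' := by rw [← hs']; ring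
    rw [this]
    ring

theorem surjective [IsAdicComplete (maximalIdeal Λ) Λ]
    (hres : ∀ r : R', ∃ l : Λ, r - algebraMap Λ R' l ∈ maximalIdeal R') (r : R') :
    ∃ c : Fin e → Λ, r = ∑ j, algebraMap Λ R' (c j) * t ^ (j : ℕ) := by
  let f : (Fin e → Λ) →ₗ[Λ] R' :=
    { toFun := fun c => ∑ j, algebraMap Λ R' (c j) * t ^ (j : ℕ)
      map_add' := fun a b => by
        simp only [Pi.add_apply, map_add, add_mul, Finset.sum_add_distrib]
      map_smul' := fun a b => by
        simp only [Pi.smul_apply, smul_eq_mul, map_mul, RingHom.id_apply, Algebra.smul_def,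
          Finset.mul_sum, mul_assoc] }
  have hcompl : IsAdicComplete (maximalIdeal Λ) (Fin e → Λ) :=
    Groth.Agent.FormalA.AdicFin.isAdicComplete_of_finite _
  have hhaus : IsHausdorff (maximalIdeal Λ) R' := by
    refine ⟨fun x hx => ?_⟩
    have h1 : ∀ n : ℕ, x ∈ maximalIdeal R' ^ n := by
      intro n
      have h2 := hx n
      rw [SModEq.zero] at h2
      have h3 : ((maximalIdeal Λ ^ n) • ⊤ : Submodule Λ R') ≤ ((maximalIdeal R') ^ n).restrictScalars Λ := by
        rw [Submodule.smul_le]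
        intro a ha y _
        rw [Algebra.smul_def]
        refine Ideal.mul_mem_right _ _ ?_
        have h4 : (maximalIdeal Λ ^ n).map (algebraMap Λ R') ≤ maximalIdeal R' ^ n := by
          rw [Ideal.map_pow]
          exact Ideal.pow_right_mono (IsLocalRing.map_maximalIdeal_le (algebraMap Λ R')) n
        exact h4 (Ideal.mem_map_of_mem _ ha)
      exact h3 h2
    have h5 : x ∈ (⨅ i : ℕ, maximalIdeal R' ^ i) := by
      rw [Ideal.mem_iInf]; exact h1
    rw [Ideal.iInf_pow_eq_bot_of_isLocalRing _ (Ideal.IsPrime.ne_top inferInstance)] at h5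
    exact h5
  have hf : Function.Surjective f := by
    refine surjective_of_mkQ_comp_surjective (I := maximalIdeal Λ) ?_
    intro y
    obtain ⟨y, rfl⟩ := Submodule.mkQ_surjective _ y
    obtain ⟨c, s, hcs⟩ := exists_sum hp ht hw hpt hres e y
    refine ⟨c, ?_⟩
    rw [LinearMap.comp_apply, Submodule.mkQ_apply, Submodule.mkQ_apply, Submodule.Quotient.eq]
    obtain ⟨w', hw'⟩ := hw.exists_right_inv
    have h1 : f c - y = p • (- (w' * s)) := by
      change ∑ j, algebraMap Λ R' (c j) * t ^ (j : ℕ) - y = _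
      rw [hcs, Algebra.smul_def, hpt]
      linear_combination (t ^ e * s) * hw'
    rw [h1]
    exact Submodule.smul_mem_smul (by rw [hp.maximalIdeal_eq]; exact Ideal.mem_span_singleton_self p) trivial
  obtain ⟨c, hc⟩ := hf r
  exact ⟨c, hc.symm⟩

theorem dvd_of_sum_eq_zero (c : Fin e → Λ) (hc : ∑ j, algebraMap Λ R' (c j) * t ^ (j : ℕ) = 0)
    (n : ℕ) (hn : n < e) : p ∣ c ⟨n, hn⟩ := by
  induction n using Nat.strong_induction_on with
  | _ n ih =>
    have key : ∀ j : Fin e, j ≠ ⟨n, hn⟩ → t ^ (n + 1) ∣ algebraMap Λ R' (c j) * t ^ (j : ℕ) := by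
      intro j hj
      rcases lt_trichotomy (j : ℕ) n with h | h | h
      · obtain ⟨d, hd⟩ := ih j h j.2
        have h1 : algebraMap Λ R' (c j) = w * t ^ e * algebraMap Λ R' d := by
          rw [← hpt, ← map_mul, ← hd]
        rw [h1]
        have h2 : t ^ (n + 1) ∣ t ^ e := pow_dvd_pow t hn
        exact Dvd.dvd.mul_right (Dvd.dvd.mul_right (Dvd.dvd.mul_left h2 w) _) _
      · exact absurd (Fin.ext h) hj
      · exact Dvd.dvd.mul_left (pow_dvd_pow t h) _
    have h1 : t ^ (n + 1) ∣ algebraMap Λ R' (c ⟨n, hn⟩) * t ^ n := by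
      classical
      rw [← Finset.add_sum_erase Finset.univ _ (Finset.mem_univ (⟨n, hn⟩ : Fin e))] at hc
      have h2 : t ^ (n + 1) ∣ ∑ j ∈ Finset.univ.erase (⟨n, hn⟩ : Fin e),
          algebraMap Λ R' (c j) * t ^ (j : ℕ) :=
        Finset.dvd_sum fun j hj => key j (Finset.mem_erase.1 hj).1
      have h3 : algebraMap Λ R' (c ⟨n, hn⟩) * t ^ n = - ∑ j ∈ Finset.univ.erase (⟨n, hn⟩ : Fin e),
          algebraMap Λ R' (c j) * t ^ (j : ℕ) := by
        linear_combination hc
      rw [h3]
      exact (dvd_neg).2 h2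
    rw [pow_succ, mul_comm (algebraMap Λ R' (c ⟨n, hn⟩))] at h1
    have h2 : t ∣ algebraMap Λ R' (c ⟨n, hn⟩) := (mul_dvd_mul_iff_left (pow_ne_zero n ht.ne_zero)).1 h1
    have h3 : c ⟨n, hn⟩ ∈ maximalIdeal Λ := by
      rw [mem_maximalIdeal, mem_nonunits_iff]
      intro h
      exact ht.not_isUnit (isUnit_of_dvd_unit h2 (h.map _))
    rwa [hp.maximalIdeal_eq, Ideal.mem_span_singleton] at h3

theorem injective (c : Fin e → Λ) (hc : ∑ j, algebraMap Λ R' (c j) * t ^ (j : ℕ) = 0) : c = 0 := by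
  have hpR : algebraMap Λ R' p ≠ 0 := by
    rw [hpt]
    exact mul_ne_zero hw.ne_zero (pow_ne_zero _ ht.ne_zero)
  have key : ∀ (n : ℕ) (c : Fin e → Λ), ∑ j, algebraMap Λ R' (c j) * t ^ (j : ℕ) = 0 →
      ∀ j, c j ∈ maximalIdeal Λ ^ n := by
    intro n
    induction n with
    | zero => intro c _ j; simp
    | succ n ih =>
      intro c hc j
      choose d hd using fun j : Fin e => dvd_of_sum_eq_zero hp ht hw hpt c hc j j.2
      have h1 : ∑ j, algebraMap Λ R' (d j) * t ^ (j : ℕ) = 0 := by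
        have h2 : algebraMap Λ R' p * ∑ j, algebraMap Λ R' (d j) * t ^ (j : ℕ) = 0 := by
          rw [← hc, Finset.mul_sum]
          refine Finset.sum_congr rfl fun j _ => ?_
          rw [hd j, map_mul, mul_assoc]
        exact (mul_eq_zero.1 h2).resolve_left hpR
      have h3 := ih d h1 j
      have h4 : c j = p * d j := hd j
      rw [h4, pow_succ', hp.maximalIdeal_eq]
      rw [hp.maximalIdeal_eq] at h3
      exact Ideal.mul_mem_mul (Ideal.mem_span_singleton_self p) h3
  ext j
  have h5 : c j ∈ (⨅ i : ℕ, maximalIdeal Λ ^ i) := by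
    rw [Ideal.mem_iInf]; exact fun n => key n c hc j
  rw [Ideal.iInf_pow_eq_bot_of_isLocalRing _ (Ideal.IsPrime.ne_top inferInstance)] at h5
  exact h5

end

end Groth.Agent.Sga7.H330.Ram
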