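import Groth.Agent.Ega4A.RegEtale
import Groth.Agent.CalgA.RegBasic
import Mathlib.RingTheory.KrullDimension.Regular
import Mathlib.RingTheory.Localization.Ideal
import Mathlib.RingTheory.DiscreteValuationRing.Basic
import Mathlib.RingTheory.EssentialFiniteness
import Mathlib.RingTheory.LocalRing.ResidueField.Ideal

/-!
# Regular local rings from a nonzerodivisor with regular quotient
-/

set_option autoImplicit false
universe u

open IsLocalRing

namespace Groth.Agent.Sga7.H330.RegPoint

section

variable {B : Type u} [CommRing B] (I : Ideal B) (P : Ideal B) [P.IsPrime] (hI : I ≤ P)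

include hI

/-- `P/I` as a prime ideal of `B/I`. -/
theorem isPrime_map : (P.map (Ideal.Quotient.mk I)).IsPrime := by
  apply Ideal.map_isPrime_of_surjective Ideal.Quotient.mk_surjective
  rw [Ideal.mk_ker]; exact hI

theorem isLocalization_quot (C : Type u) [CommRing C] [Algebra B C] [IsLocalization.AtPrime C P] :
    haveI := isPrime_map I P hI
    IsLocalization.AtPrime (C ⧸ I.map (algebraMap B C)) (P.map (Ideal.Quotient.mk I)) := by
  have hq' := isPrime_map I P hI
  have hloc : IsLocalization (Algebra.algebraMapSubmonoid (B ⧸ I) P.primeCompl)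
    (C ⧸ I.map (algebraMap B C)) := inferInstance
  have hpc : Algebra.algebraMapSubmonoid (B ⧸ I) P.primeCompl = (P.map (Ideal.Quotient.mk I)).primeCompl := by
    ext x
    obtain ⟨a, rfl⟩ := Ideal.Quotient.mk_surjective x
    constructor
    · rintro ⟨b, hb, hba⟩
      intro hx
      apply hb
      have h4 : (Ideal.Quotient.mk I) b ∈ P.map (Ideal.Quotient.mk I) := by
        have : (Ideal.Quotient.mk I) b = (Ideal.Quotient.mk I) a := hba
        rw [this]; exact hx
      have h5 : b ∈ (P.map (Ideal.Quotient.mk I)).comap (Ideal.Quotient.mk I) := h4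
      rwa [Ideal.comap_map_mk hI] at h5
    · intro hx
      refine ⟨a, fun ha => hx (Ideal.mem_map_of_mem _ ha), rfl⟩
  rw [hpc] at hloc
  exact hloc

theorem isRegularLocalRing_quot [IsRegularRing (B ⧸ I)] (C : Type u) [CommRing C] [Algebra B C]
    [IsLocalization.AtPrime C P] : IsRegularLocalRing (C ⧸ I.map (algebraMap B C)) := by
  have hq' := isPrime_map I P hI
  have := isLocalization_quot I P hI C
  exact IsRegularLocalRing.of_ringEquiv (IsLocalization.algEquiv (P.map (Ideal.Quotient.mk I)).primeCompl
    (Localization.AtPrime (P.map (Ideal.Quotient.mk I))) (C ⧸ I.map (algebraMap B C))).toRingEquiv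

end

/-- A Noetherian local ring is regular if it is so modulo a nonzerodivisor of the maximal ideal. -/
theorem isRegularLocalRing_of_nzd {C : Type u} [CommRing C] [IsLocalRing C] [IsNoetherianRing C] (x : C)
    (hx : x ∈ nonZeroDivisors C) (hm : x ∈ maximalIdeal C) [IsRegularLocalRing (C ⧸ Ideal.span {x})] :
    IsRegularLocalRing C := by
  apply Groth.Agent.Ega4A.RegEtale.isRegularLocalRing_of_quotient (Ideal.span {x})
  rw [← ringKrullDim_quotient_span_singleton_succ_eq_ringKrullDim_of_mem_nonZeroDivisors hx hm, add_comm]
  gcongr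
  have h1 : (Ideal.span {x}).spanFinrank ≤ 1 := by
    have := Submodule.spanFinrank_span_le_ncard_of_finite (R := C) (Set.finite_singleton x)
    simpa using this
  exact_mod_cast h1

section

variable {B : Type u} [CommRing B] [IsNoetherianRing B] (π : B) (hπ : π ∈ nonZeroDivisors B)
  [IsRegularRing (B ⧸ Ideal.span {π})] (P : Ideal B) [P.IsPrime] (hP : π ∈ P)

include hP

omit [IsNoetherianRing B] [IsRegularRing (B ⧸ Ideal.span {π})] in
theorem mem_maximalIdeal' : algebraMap B (Localization.AtPrime P) π ∈ maximalIdeal (Localization.AtPrime P) :=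
  (IsLocalization.AtPrime.to_map_mem_maximal_iff _ P π).2 hP

omit [IsNoetherianRing B] in
theorem isPrime_span : (Ideal.span {algebraMap B (Localization.AtPrime P) π}).IsPrime := by
  have hI : Ideal.span {π} ≤ P := by rwa [Ideal.span_le, Set.singleton_subset_iff]
  have h1 := isRegularLocalRing_quot (Ideal.span {π}) P hI (Localization.AtPrime P)
  have h2 : (Ideal.span {π}).map (algebraMap B (Localization.AtPrime P)) =
      Ideal.span {algebraMap B (Localization.AtPrime P) π} := by
    rw [Ideal.map_span, Set.image_singleton]
  rw [h2] at h1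
  rw [← Ideal.Quotient.isDomain_iff_prime]
  exact Groth.Agent.CalgA.RegBasic.isDomain _

include hπ in
theorem isRegularLocalRing : IsRegularLocalRing (Localization.AtPrime P) := by
  have hI : Ideal.span {π} ≤ P := by rwa [Ideal.span_le, Set.singleton_subset_iff]
  have h1 := isRegularLocalRing_quot (Ideal.span {π}) P hI (Localization.AtPrime P)
  have h2 : (Ideal.span {π}).map (algebraMap B (Localization.AtPrime P)) =
      Ideal.span {algebraMap B (Localization.AtPrime P) π} := by
    rw [Ideal.map_span, Set.image_singleton]
  rw [h2] at h1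
  have : IsNoetherianRing (Localization.AtPrime P) := IsLocalization.isNoetherianRing P.primeCompl _ inferInstance
  refine isRegularLocalRing_of_nzd (algebraMap B (Localization.AtPrime P) π) ?_ (mem_maximalIdeal' π P hP)
  exact IsLocalization.map_nonZeroDivisors_le P.primeCompl (Localization.AtPrime P) ⟨π, hπ, rfl⟩

end

end Groth.Agent.Sga7.H330.RegPoint
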