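import Groth.Agent.Sga7.H330.RegPoint
import Groth.Agent.Sga7.H330.FgRoots

/-!
# Roots of unity in the residue field of the generic point of a divisor
-/

set_option autoImplicit false
universe u

open IsLocalRing

namespace Groth.Agent.Sga7.H330.ResRoots

/-- Every finitely generated field over `F` contains only finitely many roots of unity of `ℓ`-power order. -/
def FewRoots (F : Type u) [Field F] (ℓ : ℕ) : Prop :=
  ∀ (k' : Type u) [Field k'] [Algebra F k'] [Algebra.EssFiniteType F k'],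
    ∃ m : ℕ, ∀ ζ : k', ¬ IsPrimitiveRoot ζ (ℓ ^ m)

theorem fewRoots_of_finite (F : Type u) [Field F] [Finite F] (ℓ : ℕ) (hℓ : 1 < ℓ) : FewRoots F ℓ :=
  fun k' _ _ _ => FgRoots.exists_of_finite_field F k' ℓ hℓ

theorem fewRoots_of_rat (F : Type u) [Field F] [CharZero F] [FiniteDimensional ℚ F] (ℓ : ℕ)
    (hℓ : ℓ.Prime) : FewRoots F ℓ :=
  fun k' _ _ _ => FgRoots.exists_of_rat F k' ℓ hℓ

/-- Essentially of finite type residue field of the prime `I C` of the local ring `C` of `B`. -/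
theorem exists_essFiniteType {B : Type u} [CommRing B] (I : Ideal B) (F : Type u) [Field F]
    [Algebra F (B ⧸ I)] [Algebra.FiniteType F (B ⧸ I)] (P : Ideal B) [P.IsPrime] (hI : I ≤ P)
    (C : Type u) [CommRing C] [Algebra B C] [IsLocalization.AtPrime C P]
    (𝔭 : Ideal C) [𝔭.IsPrime] (h𝔭 : 𝔭 = I.map (algebraMap B C)) :
    ∃ _ : Algebra F 𝔭.ResidueField, Algebra.EssFiniteType F 𝔭.ResidueField := by
  subst h𝔭
  have hq' := RegPoint.isPrime_map I P hI
  have h1 := RegPoint.isLocalization_quot I P hI C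
  let _ : Algebra F (C ⧸ I.map (algebraMap B C)) :=
    Algebra.compHom _ (algebraMap F (B ⧸ I))
  have : IsScalarTower F (B ⧸ I) (C ⧸ I.map (algebraMap B C)) := .of_algebraMap_eq fun _ => rfl
  have h2 : Algebra.EssFiniteType (B ⧸ I) (C ⧸ I.map (algebraMap B C)) :=
    .of_isLocalization _ (P.map (Ideal.Quotient.mk I)).primeCompl
  have h3 : Algebra.EssFiniteType F (C ⧸ I.map (algebraMap B C)) := .comp F (B ⧸ I) _
  let _ : Algebra F (I.map (algebraMap B C)).ResidueField :=
    Algebra.compHom _ (algebraMap F (C ⧸ I.map (algebraMap B C)))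
  have : IsScalarTower F (C ⧸ I.map (algebraMap B C)) (I.map (algebraMap B C)).ResidueField :=
    .of_algebraMap_eq fun _ => rfl
  have h4 : Algebra.EssFiniteType (C ⧸ I.map (algebraMap B C)) (I.map (algebraMap B C)).ResidueField :=
    .of_isLocalization _ (nonZeroDivisors (C ⧸ I.map (algebraMap B C)))
  exact ⟨inferInstance, .comp F (C ⧸ I.map (algebraMap B C)) _⟩

theorem exists_no_root {B : Type u} [CommRing B] (I : Ideal B) (F : Type u) [Field F]
    [Algebra F (B ⧸ I)] [Algebra.FiniteType F (B ⧸ I)] (P : Ideal B) [P.IsPrime] (hI : I ≤ P)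
    (C : Type u) [CommRing C] [Algebra B C] [IsLocalization.AtPrime C P]
    (𝔭 : Ideal C) [𝔭.IsPrime] (h𝔭 : 𝔭 = I.map (algebraMap B C)) (ℓ : ℕ) (hF : FewRoots F ℓ)
    (k' : Type u) [Field k'] [Algebra (ResidueField (Localization.AtPrime 𝔭)) k']
    (hk : FiniteDimensional (ResidueField (Localization.AtPrime 𝔭)) k') :
    ∃ m : ℕ, ∀ ζ : k', ¬ IsPrimitiveRoot ζ (ℓ ^ m) := by
  obtain ⟨_, hess⟩ := exists_essFiniteType I F P hI C 𝔭 h𝔭
  let _ : Algebra F k' := Algebra.compHom _ (algebraMap F 𝔭.ResidueField)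
  have : IsScalarTower F 𝔭.ResidueField k' := .of_algebraMap_eq fun _ => rfl
  have : Algebra.EssFiniteType F k' := .comp F 𝔭.ResidueField k'
  exact hF k'

end Groth.Agent.Sga7.H330.ResRoots
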